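import Groth.Agent.H83.Complete.FinitePart
import Groth.Agent.H83.Complete.Main
import Groth.Agent.Lib.OT67.TorsionDense
import Mathlib

/-! Translations of a commutative group and schematic density of torsion. -/

set_option autoImplicit false

universe u

open TensorProduct WithConv

namespace Groth.Agent.H83.Dense

open MultType

variable {k : Type u} [CommRing k] {C : Type u} [CommRing C] [HopfAlgebra k C]

/-- Translation by a point. -/
noncomputable def trans (g : WithConv (C →ₐ[k] k)) : C →ₐ[k] C :=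
  (Algebra.TensorProduct.lift ((Algebra.ofId k C).comp g.ofConv) (AlgHom.id k C) (fun _ _ => Commute.all _ _)).comp
    (Bialgebra.comulAlgHom k C)

theorem trans_eq (g : WithConv (C →ₐ[k] k)) :
    trans g = (toConv ((Algebra.ofId k C).comp g.ofConv) * toConv (AlgHom.id k C)).ofConv := by
  refine AlgHom.ext fun c => ?_
  show Algebra.TensorProduct.lift ((Algebra.ofId k C).comp g.ofConv) (AlgHom.id k C) (fun _ _ => Commute.all _ _)
    (CoalgebraStruct.comul (R := k) c) = _
  rw [AlgHom.convMul_apply]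

theorem apply_trans {T : Type u} [CommRing T] [Algebra k T] (g : WithConv (C →ₐ[k] k)) (y : C →ₐ[k] T) (c : C) :
    y (trans g c) = (toConv ((Algebra.ofId k T).comp g.ofConv) * toConv y).ofConv c := by
  rw [trans_eq]
  have h := AlgHom.comp_convMul_distrib y (toConv ((Algebra.ofId k C).comp g.ofConv)) (toConv (AlgHom.id k C))
  rw [ofConv_toConv, ofConv_toConv, AlgHom.comp_id, show y.comp ((Algebra.ofId k C).comp g.ofConv) =
    (Algebra.ofId k T).comp g.ofConv from AlgHom.ext fun x => y.commutes _] at h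
  exact DFunLike.congr_fun (WithConv.toConv_injective.eq_iff.mp (by simpa using h) : _) c

theorem point_trans (g y : WithConv (C →ₐ[k] k)) (c : C) : y.ofConv (trans g c) = (g * y).ofConv c := by
  rw [apply_trans, toConv_ofConv]
  congr 3

theorem trans_one : trans (1 : WithConv (C →ₐ[k] k)) = AlgHom.id k C := by
  rw [trans_eq, show (toConv ((Algebra.ofId k C).comp (1 : WithConv (C →ₐ[k] k)).ofConv) : WithConv (C →ₐ[k] C)) = 1 from
    WithConv.ofConv_injective (AlgHom.ext fun c => rfl), one_mul, ofConv_toConv]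

theorem trans_trans (g h : WithConv (C →ₐ[k] k)) (c : C) : trans g (trans h c) = trans (h * g) c := by
  rw [apply_trans h (trans g) c, trans_eq g, trans_eq (h * g), toConv_ofConv, ← mul_assoc,
    show (toConv ((Algebra.ofId k C).comp h.ofConv) * toConv ((Algebra.ofId k C).comp g.ofConv) : WithConv (C →ₐ[k] C)) =
      toConv ((Algebra.ofId k C).comp (h * g).ofConv) from
      WithConv.ofConv_injective (AlgHom.comp_convMul_distrib (Algebra.ofId k C) h g).symm]

theorem trans_injective (g : WithConv (C →ₐ[k] k)) [Coalgebra.IsCocomm k C] : Function.Injective (trans g) := by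
  intro a b hab
  have h := congrArg (trans (toConv (g.ofConv.comp (HopfAlgebra.antipodeAlgHom k C)))) hab
  rw [trans_trans, trans_trans, mul_comm, Groth.Agent.Lib.OT67.Averaging.id_antipode, trans_one] at h
  exact h

theorem trans_torsion [Coalgebra.IsCocomm k C] (g : WithConv (C →ₐ[k] k)) (n : ℕ) (hg : g ^ n = 1) {x : C}
    (hx : x ∈ SGA3b.torsionIdeal k C n) : trans g x ∈ SGA3b.torsionIdeal k C n := by
  refine (show SGA3b.torsionIdeal k C n ≤ (SGA3b.torsionIdeal k C n).comap (trans g) from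
    Ideal.map_le_iff_le_comap.mpr fun c hc => ?_) hx
  rw [Ideal.mem_comap, Ideal.mem_comap]
  suffices h : trans g (SGA3b.powConv k C n c) = SGA3b.powConv k C n c by
    rw [h]; exact Ideal.mem_map_of_mem _ hc
  let P : C →ₐ[k] C := SGA3b.powConv k C n
  have h1 : ((trans g).comp P) = P := by
    have hp := Groth.Agent.Lib.OT67.comp_pow (trans g) (toConv (AlgHom.id k C)) n
    rw [ofConv_toConv, AlgHom.comp_id] at hp
    show (trans g).comp (SGA3b.powConv k C n) = SGA3b.powConv k C n
    rw [SGA3b.powConv, hp, trans_eq, toConv_ofConv, mul_pow]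
    congr 1
    have hc : (toConv ((Algebra.ofId k C).comp g.ofConv) : WithConv (C →ₐ[k] C)) ^ n = 1 := by
      have := congrArg (Groth.Agent.Lib.OT67.Averaging.push (Algebra.ofId k C)) hg
      rw [map_pow, map_one] at this
      exact this
    rw [hc, one_mul]
  exact DFunLike.congr_fun h1 c

theorem torsionIdeal_mul_le (n N : ℕ) : SGA3b.torsionIdeal k C (n * N) ≤ SGA3b.torsionIdeal k C n := by
  refine Ideal.map_le_iff_le_comap.mpr fun c hc => ?_
  rw [Ideal.mem_comap, ← Groth.Agent.Lib.OT67.powConv_comp]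
  refine Ideal.mem_map_of_mem (SGA3b.powConv k C n) (show SGA3b.powConv k C N c ∈ RingHom.ker (Bialgebra.counitAlgHom k C) from ?_)
  rw [RingHom.mem_ker, Groth.Agent.Lib.OT67.counit_powConv]
  exact hc

set_option maxHeartbeats 800000 in
set_option synthInstance.maxHeartbeats 200000 in
/-- Density over an algebraically closed field. -/
theorem eq_zero_algClosed (K : Type u) [Field K] [IsAlgClosed K] (D : Type u) [CommRing D] [HopfAlgebra K D]
    [Coalgebra.IsCocomm K D] [Algebra.FiniteType K D] (e : D) (he : IsIdempotentElem e) [(Ideal.span {e}).IsHopfIdeal K]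
    (hG : SGA3b.IsMultType K (D ⧸ Ideal.span {e})) (a x : D)
    (hx : ∀ n : ℕ, 0 < n → ∃ m : ℕ, a ^ m * x ∈ SGA3b.torsionIdeal K D n) : ∃ m : ℕ, a ^ m * x = 0 := by
  classical
  let B := D ⧸ Ideal.span {e}
  let φ : D →ₐc[K] B := Bialgebra.Quotient.mkBialgHom (R := K) (Ideal.span {e})
  have hφs : Function.Surjective φ := Ideal.Quotient.mk_surjective
  have hφe : φ e = 0 := Ideal.Quotient.eq_zero_iff_mem.mpr (Ideal.mem_span_singleton_self e)
  let I : Ideal D :=
    { carrier := {c | ∃ m : ℕ, a ^ m * (c * x) = 0}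
      zero_mem' := ⟨0, by simp⟩
      add_mem' := fun {p q} ⟨m, hm⟩ ⟨m', hm'⟩ => ⟨m + m', by
        rw [add_mul, mul_add, pow_add]
        have h1 : a ^ m * a ^ m' * (p * x) = a ^ m' * (a ^ m * (p * x)) := by ring
        have h2 : a ^ m * a ^ m' * (q * x) = a ^ m * (a ^ m' * (q * x)) := by ring
        rw [h1, h2, hm, hm', mul_zero, mul_zero, add_zero]⟩
      smul_mem' := fun r c ⟨m, hm⟩ => ⟨m, by
        rw [smul_eq_mul, show a ^ m * (r * c * x) = r * (a ^ m * (c * x)) by ring, hm, mul_zero]⟩ }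
  suffices hI : I = ⊤ by
    obtain ⟨m, hm⟩ := (Ideal.eq_top_iff_one I).mp hI
    exact ⟨m, by rwa [one_mul] at hm⟩
  by_contra hne
  obtain ⟨P, hP, hle⟩ := Ideal.exists_le_maximal I hne
  haveI := hP
  letI := Ideal.Quotient.field P
  haveI : Algebra.FiniteType K (D ⧸ P) := Algebra.FiniteType.of_surjective (Ideal.Quotient.mkₐ K P) Ideal.Quotient.mk_surjective
  haveI : Module.Finite K (D ⧸ P) := finite_of_finite_type_of_isJacobsonRing K _
  let σ := AlgEquiv.ofBijective (Algebra.ofId K (D ⧸ P)) (IsAlgClosed.algebraMap_bijective_of_isIntegral (k := K) (K := D ⧸ P))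
  let y : WithConv (D →ₐ[K] K) := toConv (σ.symm.toAlgHom.comp (Ideal.Quotient.mkₐ K P))
  have hy : ∀ c, c ∈ P → y.ofConv c = 0 := fun c hc => by
    show σ.symm (Ideal.Quotient.mk P c) = 0
    rw [Ideal.Quotient.eq_zero_iff_mem.mpr hc, map_zero]
  let res : WithConv (B →ₐ[K] K) →* WithConv (D →ₐ[K] K) :=
    { toFun := fun z => toConv (z.ofConv.comp (φ : D →ₐ[K] B))
      map_one' := WithConv.ofConv_injective (AlgHom.ext fun c => by
        show algebraMap K K (CoalgebraStruct.counit (φ c)) = algebraMap K K (CoalgebraStruct.counit c)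
        rw [CoalgHomClass.counit_comp_apply])
      map_mul' := fun p q => by
        apply WithConv.ofConv_injective
        rw [ofConv_toConv, AlgHom.convMul_comp_bialgHom_distrib] }
  have hres : ∀ z, (res z).ofConv e = 0 := fun z => by
    show z.ofConv (φ e) = 0
    rw [hφe, map_zero]
  -- some power of `y` lies in the subgroup
  obtain ⟨l, hl, hyl⟩ : ∃ l : ℕ, 0 < l ∧ (y ^ l).ofConv e = 0 := by
    haveI : IsNoetherianRing D := Algebra.FiniteType.isNoetherianRing K D
    obtain ⟨i, -, j, -, hij, hτ⟩ := Set.infinite_univ.exists_lt_map_eq_of_mapsTo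
      (f := fun i : ℕ => trans (y ^ i) e) (t := {c : D | IsIdempotentElem c})
      (fun i _ => he.map (trans (y ^ i))) (Groth.Agent.Lib.OT67.TorsionDense.finite_idempotents _)
    refine ⟨j - i, by omega, ?_⟩
    have h1 : ((y ^ i)⁻¹ : WithConv (D →ₐ[K] K)).ofConv (trans (y ^ i) e) =
        ((y ^ i)⁻¹ : WithConv (D →ₐ[K] K)).ofConv (trans (y ^ j) e) :=
      congrArg ((y ^ i)⁻¹ : WithConv (D →ₐ[K] K)).ofConv hτ
    rw [point_trans, point_trans, mul_inv_cancel] at h1
    rw [pow_sub y hij.le, ← h1]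
    show algebraMap K K (CoalgebraStruct.counit (R := K) e) = 0
    rw [← CoalgHomClass.counit_comp_apply φ e, hφe, map_zero, map_zero]
  obtain ⟨z, hz⟩ : ∃ z, res z = y ^ l := by
    have hker : ∀ c ∈ RingHom.ker (φ : D →ₐ[K] B), (y ^ l).ofConv c = 0 := fun c hc => by
      obtain ⟨d, rfl⟩ := Ideal.mem_span_singleton'.mp (Ideal.Quotient.eq_zero_iff_mem.mp (show Ideal.Quotient.mk (Ideal.span {e}) c = 0 from hc))
      rw [map_mul, hyl, mul_zero]
    exact ⟨toConv (AlgHom.liftOfSurjective (φ : D →ₐ[K] B) hφs (y ^ l).ofConv fun c hc => RingHom.mem_ker.2 (hker c hc)),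
      WithConv.ofConv_injective (AlgHom.liftOfSurjective_comp _ _ _ _)⟩
  haveI : Algebra.FiniteType K B := Algebra.FiniteType.of_surjective (φ : D →ₐ[K] B) hφs
  obtain ⟨N, v, hN, hv⟩ := Groth.Agent.Lib.OT67.TorsionDense.exists_point_root
    (Complete.isIsotrivial_of_field inferInstance hG) z l hl
  let g := y * (res v)⁻¹
  have hg : g ^ (l * N) = 1 := by
    have hcomm : Commute y (res v)⁻¹ := mul_comm _ _
    show (y * (res v)⁻¹) ^ (l * N) = 1
    rw [hcomm.mul_pow, pow_mul y, ← hz, ← map_pow, ← hv, inv_pow, map_pow]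
    exact mul_inv_cancel _
  -- the idempotent of the coset of `g`
  let u : D := trans g⁻¹ (1 - e)
  have hu : y.ofConv u = 1 := by
    show y.ofConv (trans g⁻¹ (1 - e)) = 1
    rw [point_trans, show g⁻¹ * y = res v by simp [g], map_sub, map_one, hres, sub_zero]
  have hui : IsIdempotentElem u := he.one_sub.map (trans g⁻¹)
  suffices huI : u ∈ I by
    have := hy u (hle huI)
    rw [hu] at this
    exact one_ne_zero this
  have htu : trans g u = 1 - e := by
    show trans g (trans g⁻¹ (1 - e)) = 1 - e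
    rw [trans_trans, inv_mul_cancel, trans_one, AlgHom.id_apply]
  have hmem : ∀ n : ℕ, 0 < n → ∃ m : ℕ,
        Ideal.Quotient.mk (Ideal.span {e}) (trans g (a ^ m * x)) ∈ SGA3b.torsionIdeal K B n := by
    intro n hn
    obtain ⟨m, hm⟩ := hx (n * (l * N)) (Nat.mul_pos hn (Nat.mul_pos hl hN))
    refine ⟨m, ?_⟩
    have h1 := trans_torsion g (n * (l * N)) (by rw [mul_comm, pow_mul, hg, one_pow]) hm
    exact torsionIdeal_mul_le n (l * N) (Complete.map_torsion_le φ _ (Ideal.mem_map_of_mem _ h1))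
  let α : B := Ideal.Quotient.mk (Ideal.span {e}) (trans g a)
  let ξ : B := Ideal.Quotient.mk (Ideal.span {e}) (trans g x)
  have h0 : algebraMap B (Localization.Away α) ξ = 0 := by
    rw [← Ideal.mem_bot, ← iInf_torsionIdeal (inferInstance : Algebra.FiniteType K B) hG α, Submodule.mem_iInf]
    rintro ⟨n, hn⟩
    obtain ⟨m, hm⟩ := hmem n hn
    rw [map_mul, map_pow, map_mul, map_pow] at hm
    have hu' : IsUnit (algebraMap B (Localization.Away α) α) := IsLocalization.Away.algebraMap_isUnit α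
    refine (Ideal.unit_mul_mem_iff_mem _ (hu'.pow m)).mp ?_
    rw [← map_pow, ← map_mul]
    exact Ideal.mem_map_of_mem _ hm
  obtain ⟨⟨_, m, rfl⟩, hm⟩ := (IsLocalization.map_eq_zero_iff (Submonoid.powers α) _ ξ).mp h0
  refine ⟨m, trans_injective g ?_⟩
  rw [map_mul, map_mul, htu, map_pow, map_zero]
  have hq : Ideal.Quotient.mk (Ideal.span {e}) (trans g a ^ m * trans g x) = 0 := by
    rw [map_mul, map_pow]; exact hm
  obtain ⟨d, hd⟩ := Ideal.mem_span_singleton'.mp (Ideal.Quotient.eq_zero_iff_mem.mp hq)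
  rw [show trans g a ^ m * ((1 - e) * trans g x) = (1 - e) * (trans g a ^ m * trans g x) by ring, ← hd,
    show (1 - e) * (d * e) = d * ((1 - e) * e) by ring, show (1 - e) * e = 0 by rw [sub_mul, one_mul, he.eq, sub_self],
    mul_zero]

set_option maxHeartbeats 800000 in
set_option synthInstance.maxHeartbeats 200000 in
/-- Density over any field. -/
theorem iInf_torsion {k : Type u} [Field k] {C : Type u} [CommRing C] [HopfAlgebra k C] [Coalgebra.IsCocomm k C]
    (hft : Algebra.FiniteType k C) (e : C) (he : IsIdempotentElem e) [(Ideal.span {e}).IsHopfIdeal k]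
    (hG : SGA3b.IsMultType k (C ⧸ Ideal.span {e})) (a : C) :
    ⨅ n : {n : ℕ // 0 < n}, Ideal.map (algebraMap C (Localization.Away a)) (SGA3b.torsionIdeal k C n.1) = ⊥ := by
  classical
  haveI := hft
  refine le_bot_iff.1 fun z hz => ?_
  rw [Submodule.mem_iInf] at hz
  obtain ⟨x, ⟨_, r, rfl⟩, rfl⟩ := IsLocalization.exists_mk'_eq (Submonoid.powers a) z
  have hx : ∀ n : ℕ, 0 < n → ∃ m : ℕ, a ^ m * x ∈ SGA3b.torsionIdeal k C n := fun n hn => by
    obtain ⟨_, ⟨m, rfl⟩, hm⟩ := (IsLocalization.mk'_mem_map_algebraMap_iff (Submonoid.powers a) _ _ _ _).mp (hz ⟨n, hn⟩)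
    exact ⟨m, hm⟩
  let K := AlgebraicClosure k
  let D := K ⊗[k] C
  let q : D →ₐc[K] K ⊗[k] (C ⧸ Ideal.span {e}) := Complete.quotHom (Ideal.span {e}) K
  haveI := Groth.Agent.Lib.OT67.OpenPart.isHopfIdeal_ker (φ := q) (Complete.quotHom_surjective _ K)
  have hker : RingHom.ker (q : D →ₐ[K] K ⊗[k] (C ⧸ Ideal.span {e})) = Ideal.span {(1 : K) ⊗ₜ[k] e} := by
    ext w
    show q w = 0 ↔ _
    rw [Complete.quotHom_eq, Complete.ker_map_mk, Ideal.map_span, Set.image_singleton]
    rfl
  haveI : (Ideal.span {(1 : K) ⊗ₜ[k] e} : Ideal D).IsHopfIdeal K := hker ▸ inferInstance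
  obtain ⟨E, -⟩ := Complete.exists_equiv_of_ker (Bialgebra.Quotient.mkBialgHom (R := K) (Ideal.span {(1 : K) ⊗ₜ[k] e})) q
    Ideal.Quotient.mk_surjective (Complete.quotHom_surjective _ K) fun w => by
      show Ideal.Quotient.mk _ w = 0 ↔ q w = 0
      rw [Ideal.Quotient.eq_zero_iff_mem, ← hker]
      rfl
  have hGK : SGA3b.IsMultType K (D ⧸ Ideal.span {(1 : K) ⊗ₜ[k] e}) :=
    Quasi.isMultType_of_equiv E (fun S _ _ => Complete.exists_equiv_baseChange E S) (isMultType_baseChange K hG)
  obtain ⟨m, hm⟩ := eq_zero_algClosed K D ((1 : K) ⊗ₜ[k] e)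
    (he.map (Algebra.TensorProduct.includeRight : C →ₐ[k] D)) hGK ((1 : K) ⊗ₜ[k] a) ((1 : K) ⊗ₜ[k] x) fun n hn => by
      obtain ⟨m, hm⟩ := hx n hn
      refine ⟨m, ?_⟩
      rw [Complete.torsion_baseChange, Algebra.TensorProduct.tmul_pow, one_pow, Algebra.TensorProduct.tmul_mul_tmul, one_mul]
      exact Ideal.mem_map_of_mem _ hm
  rw [Algebra.TensorProduct.tmul_pow, one_pow, Algebra.TensorProduct.tmul_mul_tmul, one_mul] at hm
  have hm0 : a ^ m * x = 0 := Complete.one_tmul_injective (A := k) K (hm.trans (TensorProduct.tmul_zero _ _).symm)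
  rw [Ideal.mem_bot, IsLocalization.mk'_eq_zero_iff]
  exact ⟨⟨a ^ m, m, rfl⟩, hm0⟩

end Groth.Agent.H83.Dense
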